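import Mathlib
import Cfsg.Agent.Lib.Helper54.K4

set_option autoImplicit false

/-! # Definitions for S3157 (non-abelian groups of order 64 with a fixed-point-free automorphism of
order 3 inverted by an involution) -/

namespace Cfsg.Agent.Lib.Helper47.T64

open Cfsg.Agent.Lib.Helper54 (K4)
open scoped commutatorElement

/-- `T` is special with centre `Z`, and `ρ` is a fixed-point-free automorphism of order 3. -/
structure Cfg {T : Type*} [Group T] (ρ : MulAut T) (Z : Subgroup T) : Prop where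
  cen : ∀ z ∈ Z, ∀ g : T, z * g = g * z
  zsq : ∀ z ∈ Z, z * z = 1
  comm : ∀ g h : T, ⁅g, h⁆ ∈ Z
  sq : ∀ g : T, g * g ∈ Z
  inv : ∀ z ∈ Z, ρ z ∈ Z
  tr : ∀ g : T, g * ρ g * ρ (ρ g) = 1
  cm : ∀ g : T, g * ρ g = ρ g * g
  cube : ∀ g : T, ρ (ρ (ρ g)) = g
  fpf : ∀ g : T, ρ g = g → g = 1

/-- the `ρ`-invariant abelian subgroup generated by `g` and the centre -/
def line {T : Type*} [Group T] (ρ : MulAut T) (g : T) : Subgroup T :=
  Subgroup.closure {g, ρ g} ⊔ Subgroup.center T

/-- the Heisenberg group over `R` : upper unitriangular `3 × 3` matrices `[1 s c; 0 1 t; 0 0 1]` -/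
@[ext] structure Heis (R : Type*) where
  s : R
  t : R
  c : R

instance instGroupHeis {R : Type*} [CommRing R] : Group (Heis R) where
  mul x y := ⟨x.s + y.s, x.t + y.t, x.c + y.c + x.s * y.t⟩
  one := ⟨0, 0, 0⟩
  inv x := ⟨-x.s, -x.t, -x.c + x.s * x.t⟩
  mul_assoc x y z := by
    apply Heis.ext
    · show x.s + y.s + z.s = x.s + (y.s + z.s); ring
    · show x.t + y.t + z.t = x.t + (y.t + z.t); ring
    · show x.c + y.c + x.s * y.t + z.c + (x.s + y.s) * z.t
        = x.c + (y.c + z.c + y.s * z.t) + x.s * (y.t + z.t); ring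
  one_mul x := by
    apply Heis.ext
    · show 0 + x.s = x.s; ring
    · show 0 + x.t = x.t; ring
    · show 0 + x.c + 0 * x.t = x.c; ring
  mul_one x := by
    apply Heis.ext
    · show x.s + 0 = x.s; ring
    · show x.t + 0 = x.t; ring
    · show x.c + 0 + x.s * 0 = x.c; ring
  inv_mul_cancel x := by
    apply Heis.ext
    · show -x.s + x.s = 0; ring
    · show -x.t + x.t = 0; ring
    · show -x.c + x.s * x.t + x.c + -x.s * x.t = 0; ring

theorem Heis.mul_s {R : Type*} [CommRing R] (x y : Heis R) : (x * y).s = x.s + y.s := rfl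
theorem Heis.mul_t {R : Type*} [CommRing R] (x y : Heis R) : (x * y).t = x.t + y.t := rfl
theorem Heis.mul_c {R : Type*} [CommRing R] (x y : Heis R) :
    (x * y).c = x.c + y.c + x.s * y.t := rfl
theorem Heis.one_s {R : Type*} [CommRing R] : (1 : Heis R).s = 0 := rfl
theorem Heis.one_t {R : Type*} [CommRing R] : (1 : Heis R).t = 0 := rfl
theorem Heis.one_c {R : Type*} [CommRing R] : (1 : Heis R).c = 0 := rfl

/-- `0 ↦ 1`, `1 ↦ g1`, `ω ↦ g2`, `ω² = 1 + ω ↦ g3` (`ω = K4.ofN 2`) -/
def sel {T : Type*} [One T] (g1 g2 g3 : T) (k : K4) : T :=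
  match k.n with
  | 0 => 1
  | 1 => g1
  | 2 => g2
  | 3 => g3

end Cfsg.Agent.Lib.Helper47.T64
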