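import Mathlib
import Cfsg.Agent.Lib.Helper47.T64.Defs

set_option autoImplicit false

namespace Cfsg.Agent.Lib.Helper47.T64

open Cfsg.Agent.Lib.Helper54 (K4)
open scoped commutatorElement

theorem fpf_identities {T : Type*} [Group T] [Finite T] (ρ : MulAut T)
    (h3 : ∀ g, ρ (ρ (ρ g)) = g) (hfp : ∀ g, ρ g = g → g = 1) :
    (∀ g, g * ρ g * ρ (ρ g) = 1) ∧ (∀ g, g * ρ g = ρ g * g) := by
  have hinj : Function.Injective (fun w : T => w⁻¹ * ρ w) := by
    intro w v h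
    have h' : w⁻¹ * ρ w = v⁻¹ * ρ v := h
    have h1 : ρ (v * w⁻¹) = v * w⁻¹ := by
      rw [map_mul, map_inv]
      have h2 : ρ w = w * (v⁻¹ * ρ v) := by rw [← h', mul_inv_cancel_left]
      rw [h2]
      group
    have h2 := hfp _ h1
    exact (mul_inv_eq_one.1 h2).symm
  have hsurj := Finite.surjective_of_injective hinj
  have tr : ∀ g, g * ρ g * ρ (ρ g) = 1 := by
    intro g
    obtain ⟨w, hw⟩ := hsurj g
    have hw' : w⁻¹ * ρ w = g := hw
    rw [← hw']
    simp only [map_mul, map_inv, h3]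
    group
  refine ⟨tr, ?_⟩
  intro g
  have h1 := tr g
  have h2 := tr g⁻¹
  simp only [map_inv] at h2
  generalize ρ (ρ g) = b at h1 h2
  generalize ρ g = a at h1 h2 ⊢
  have e1 : b = (g * a)⁻¹ := eq_inv_of_mul_eq_one_right h1
  have e2 : b⁻¹ = (g⁻¹ * a⁻¹)⁻¹ := eq_inv_of_mul_eq_one_right h2
  rw [e1] at e2
  simpa using e2

end Cfsg.Agent.Lib.Helper47.T64
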