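import Mathlib
import Cfsg.Agent.Lib.Helper47.T64.Defs

set_option autoImplicit false

/-! T64 piece B1.  Commutator calculus in a `Cfg` (class 2, elementary abelian centre `Z`). -/
namespace Cfsg.Agent.Lib.Helper47.T64

open Cfsg.Agent.Lib.Helper54 (K4)
open scoped commutatorElement

variable {T : Type*} [Group T] {ρ : MulAut T} {Z : Subgroup T}

theorem mul_eq (c : Cfg ρ Z) (g h : T) : g * h = h * g * ⁅g, h⁆ := by
  rw [← c.cen _ (c.comm g h) (h * g), commutatorElement_def]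
  group

theorem comm_symm (c : Cfg ρ Z) (g h : T) : ⁅g, h⁆ = ⁅h, g⁆ := by
  rw [← commutatorElement_inv g h]
  exact eq_inv_of_mul_eq_one_left (c.zsq _ (c.comm g h))

theorem comm_mul_left (c : Cfg ρ Z) (g h k : T) : ⁅g * h, k⁆ = ⁅g, k⁆ * ⁅h, k⁆ := by
  have h1 : g * h * k = k * (g * h) * ⁅g * h, k⁆ := mul_eq c (g * h) k
  have h2 : g * h * k = k * (g * h) * (⁅g, k⁆ * ⁅h, k⁆) := by
    calc g * h * k = g * (h * k) := mul_assoc _ _ _
      _ = g * (k * h * ⁅h, k⁆) := by rw [mul_eq c h k]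
      _ = (g * k) * h * ⁅h, k⁆ := by group
      _ = (k * g * ⁅g, k⁆) * h * ⁅h, k⁆ := by rw [mul_eq c g k]
      _ = k * g * (⁅g, k⁆ * h) * ⁅h, k⁆ := by group
      _ = k * g * (h * ⁅g, k⁆) * ⁅h, k⁆ := by rw [c.cen _ (c.comm g k) h]
      _ = k * (g * h) * (⁅g, k⁆ * ⁅h, k⁆) := by group
  exact mul_left_cancel (h1.symm.trans h2)

theorem comm_mul_right (c : Cfg ρ Z) (g h k : T) : ⁅g, h * k⁆ = ⁅g, h⁆ * ⁅g, k⁆ := by
  rw [comm_symm c g (h * k), comm_mul_left c, comm_symm c h g, comm_symm c k g]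

theorem B1_comm_cen (c : Cfg ρ Z) (k z : T) (hz : z ∈ Z) : ⁅z, k⁆ = 1 := by
  rw [commutatorElement_def, c.cen z hz k]
  group

theorem comm_cen_left (c : Cfg ρ Z) (g k z : T) (hz : z ∈ Z) : ⁅g * z, k⁆ = ⁅g, k⁆ := by
  rw [comm_mul_left c, B1_comm_cen c k z hz, mul_one]

theorem comm_cen_right (c : Cfg ρ Z) (g k z : T) (hz : z ∈ Z) : ⁅g, k * z⁆ = ⁅g, k⁆ := by
  rw [comm_mul_right c, comm_symm c g z, B1_comm_cen c g z hz, mul_one]

theorem comm_rho (g h : T) : ρ ⁅g, h⁆ = ⁅ρ g, ρ h⁆ := by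
  rw [commutatorElement_def, commutatorElement_def, map_mul, map_mul, map_mul, map_inv, map_inv]

theorem comm_eq_one_iff (g h : T) : ⁅g, h⁆ = 1 ↔ g * h = h * g :=
  commutatorElement_eq_one_iff_mul_comm

end Cfsg.Agent.Lib.Helper47.T64
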