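import Mathlib
import Cfsg.Agent.Lib.Helper47.T64.Defs
import Cfsg.Agent.Lib.Helper47.T64.B1

set_option autoImplicit false

/-! T64 piece B2.  The twist relations  `⁅g, ρ h⁆ = ρ² ⁅g, h⁆`, `⁅g, ρ² h⁆ = ρ ⁅g, h⁆`. -/
namespace Cfsg.Agent.Lib.Helper47.T64

open Cfsg.Agent.Lib.Helper54 (K4)
open scoped commutatorElement

variable {T : Type*} [Group T] {ρ : MulAut T} {Z : Subgroup T}

theorem B2_inv (c : Cfg ρ Z) (z : T) (hz : z ∈ Z) : z⁻¹ = z :=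
  inv_eq_of_mul_eq_one_left (c.zsq z hz)

theorem B2_self (c : Cfg ρ Z) (u : T) : ⁅u, ρ u⁆ = 1 := (comm_eq_one_iff u (ρ u)).2 (c.cm u)

theorem B2_swap (c : Cfg ρ Z) (g h : T) : ⁅g, ρ h⁆ = ⁅ρ g, h⁆ := by
  have h1 := B2_self c (g * h)
  rw [map_mul, comm_mul_left c, comm_mul_right c, comm_mul_right c, B2_self c g, B2_self c h,
    one_mul, mul_one] at h1
  have h2 : ⁅g, ρ h⁆ = ⁅h, ρ g⁆⁻¹ := eq_inv_of_mul_eq_one_left h1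
  rw [h2, B2_inv c _ (c.comm _ _), comm_symm c]

theorem twist_right2 (c : Cfg ρ Z) (g h : T) : ⁅g, ρ (ρ h)⁆ = ρ ⁅g, h⁆ := by
  rw [B2_swap c, comm_rho]

theorem twist_right (c : Cfg ρ Z) (g h : T) : ⁅g, ρ h⁆ = ρ (ρ ⁅g, h⁆) := by
  have h1 : ⁅g, h * ρ h * ρ (ρ h)⁆ = 1 := by
    rw [c.tr h]; simp
  rw [comm_mul_right c, comm_mul_right c, twist_right2 c] at h1
  have hw := c.comm g h
  have hρw := c.inv _ hw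
  have hρρw := c.inv _ hρw
  have h2 := c.tr ⁅g, h⁆
  -- `w * b * ρ w = 1`, `w * ρ w * ρ² w = 1`
  have h3 : ⁅g, ρ h⁆ = ⁅g, h⁆⁻¹ * (ρ ⁅g, h⁆)⁻¹ := by
    have : ⁅g, h⁆ * ⁅g, ρ h⁆ = (ρ ⁅g, h⁆)⁻¹ := eq_inv_of_mul_eq_one_left h1
    calc ⁅g, ρ h⁆ = ⁅g, h⁆⁻¹ * (⁅g, h⁆ * ⁅g, ρ h⁆) := by group
      _ = _ := by rw [this]
  have h4 : ⁅g, h⁆ * ρ ⁅g, h⁆ = (ρ (ρ ⁅g, h⁆))⁻¹ := eq_inv_of_mul_eq_one_left h2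
  rw [h3, B2_inv c _ hw, B2_inv c _ hρw, h4, B2_inv c _ hρρw]

theorem twist_left (c : Cfg ρ Z) (g h : T) : ⁅ρ g, h⁆ = ρ (ρ ⁅g, h⁆) := by
  rw [← B2_swap c, twist_right c]

theorem twist_left2 (c : Cfg ρ Z) (g h : T) : ⁅ρ (ρ g), h⁆ = ρ ⁅g, h⁆ := by
  rw [← B2_swap c, comm_rho]

end Cfsg.Agent.Lib.Helper47.T64
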