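import Mathlib
import Cfsg.Agent.Lib.Helper47.T64.Defs
import Cfsg.Agent.Lib.Helper47.T64.B1

set_option autoImplicit false

/-! T64 piece B3.  Squares of products, and the elements of `Z`. -/
namespace Cfsg.Agent.Lib.Helper47.T64

open Cfsg.Agent.Lib.Helper54 (K4)
open scoped commutatorElement

variable {T : Type*} [Group T] {ρ : MulAut T} {Z : Subgroup T}

theorem sq_mul (c : Cfg ρ Z) (g h : T) : g * h * (g * h) = g * g * (h * h) * ⁅g, h⁆ := by
  have h1 := mul_eq c h g
  have hw := c.cen _ (c.comm h g)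
  calc g * h * (g * h) = g * (h * g) * h := by group
    _ = g * (g * h * ⁅h, g⁆) * h := by rw [← h1]
    _ = g * g * h * (⁅h, g⁆ * h) := by group
    _ = g * g * h * (h * ⁅h, g⁆) := by rw [hw h]
    _ = g * g * (h * h) * ⁅h, g⁆ := by group
    _ = g * g * (h * h) * ⁅g, h⁆ := by rw [comm_symm c h g]

theorem Z_cases [Finite T] (c : Cfg ρ Z) (hZ : Nat.card Z = 4) (w : T) (hw : w ∈ Z) (hw1 : w ≠ 1) :
    ∀ z ∈ Z, z = 1 ∨ z = w ∨ z = ρ w ∨ z = ρ (ρ w) := by
  classical
  have := Fintype.ofFinite ↥Z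
  have hρw : ρ w ∈ Z := c.inv w hw
  have hρρw : ρ (ρ w) ∈ Z := c.inv _ hρw
  have n1 : ρ w ≠ 1 := fun h => hw1 (by simpa using h)
  have n2 : ρ (ρ w) ≠ 1 := fun h => n1 (by simpa using h)
  have n3 : ρ w ≠ w := fun h => hw1 (c.fpf w h)
  have n4 : ρ (ρ w) ≠ ρ w := fun h => n3 (ρ.injective h)
  have n5 : ρ (ρ w) ≠ w := by
    intro h
    apply n3
    have := congrArg ρ h
    rw [c.cube] at this
    exact this.symm
  let S : Finset ↥Z := {1, ⟨w, hw⟩, ⟨ρ w, hρw⟩, ⟨ρ (ρ w), hρρw⟩}
  have hS : S.card = 4 := by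
    rw [Finset.card_insert_of_notMem, Finset.card_insert_of_notMem, Finset.card_insert_of_notMem,
      Finset.card_singleton]
    · simp only [Finset.mem_singleton, Subtype.mk.injEq]
      exact fun h => n4 h.symm
    · simp only [Finset.mem_insert, Finset.mem_singleton, Subtype.mk.injEq, not_or]
      exact ⟨fun h => n3 h.symm, fun h => n5 h.symm⟩
    · simp only [Finset.mem_insert, Finset.mem_singleton, not_or]
      refine ⟨fun h => hw1 (congrArg Subtype.val h).symm, fun h => n1 (congrArg Subtype.val h).symm,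
        fun h => n2 (congrArg Subtype.val h).symm⟩
  have hu : S = Finset.univ := Finset.eq_univ_of_card S (by rw [hS, ← Nat.card_eq_fintype_card, hZ])
  intro z hz
  have hm : (⟨z, hz⟩ : ↥Z) ∈ S := by rw [hu]; exact Finset.mem_univ _
  simp only [S, Finset.mem_insert, Finset.mem_singleton, Subtype.mk.injEq] at hm
  rcases hm with h | h | h | h
  · left; exact congrArg Subtype.val h
  · right; left; exact h
  · right; right; left; exact h
  · right; right; right; exact h

theorem tr_Z (c : Cfg ρ Z) (w : T) (hw : w ∈ Z) : w * ρ w = ρ (ρ w) := by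
  have h1 := c.tr w
  have h2 := c.zsq _ (c.inv _ (c.inv w hw))
  calc w * ρ w = w * ρ w * (ρ (ρ w) * ρ (ρ w)) := by rw [h2, mul_one]
    _ = (w * ρ w * ρ (ρ w)) * ρ (ρ w) := by group
    _ = ρ (ρ w) := by rw [h1, one_mul]

end Cfsg.Agent.Lib.Helper47.T64
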