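import Mathlib
import Cfsg.Agent.Lib.Helper47.T64.Defs

set_option autoImplicit false

/-! T64 piece H3.  `sel g1 g2 g3 : K4 → T` is additive-to-multiplicative when `{1, g1, g2, g3}` is a four-group. -/
namespace Cfsg.Agent.Lib.Helper47.T64

open Cfsg.Agent.Lib.Helper54 (K4)
open scoped commutatorElement

theorem sel_add {T : Type*} [Group T] (g1 g2 g3 : T) (h1 : g1 * g1 = 1) (h2 : g2 * g2 = 1)
    (h3 : g3 * g3 = 1) (h12 : g1 * g2 = g3) (h21 : g2 * g1 = g3) :
    ∀ k k' : K4, sel g1 g2 g3 (k + k') = sel g1 g2 g3 k * sel g1 g2 g3 k' := by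
  have h13 : g1 * g3 = g2 := by rw [← h12, ← mul_assoc, h1, one_mul]
  have h31 : g3 * g1 = g2 := by rw [← h21, mul_assoc, h1, mul_one]
  have h23 : g2 * g3 = g1 := by rw [← h21, ← mul_assoc, h2, one_mul]
  have h32 : g3 * g2 = g1 := by rw [← h12, mul_assoc, h2, mul_one]
  intro k k'
  obtain ⟨n⟩ := k
  obtain ⟨n'⟩ := k'
  fin_cases n <;> fin_cases n'
  · exact (one_mul _).symm
  · exact (one_mul _).symm
  · exact (one_mul _).symm
  · exact (one_mul _).symm
  · exact (mul_one _).symm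
  · exact h1.symm
  · exact h12.symm
  · exact h13.symm
  · exact (mul_one _).symm
  · exact h21.symm
  · exact h2.symm
  · exact h23.symm
  · exact (mul_one _).symm
  · exact h31.symm
  · exact h32.symm
  · exact h3.symm

theorem sel_eq_one {T : Type*} [Group T] (g1 g2 g3 : T) (h1 : g1 ≠ 1) (h2 : g2 ≠ 1) (h3 : g3 ≠ 1) :
    ∀ k : K4, sel g1 g2 g3 k = 1 → k = 0 := by
  intro k hk
  obtain ⟨n⟩ := k
  fin_cases n
  · rfl
  · exact absurd hk h1
  · exact absurd hk h2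
  · exact absurd hk h3

theorem sel_mem {T : Type*} [Group T] (Z : Subgroup T) (g1 g2 g3 : T) (h1 : g1 ∈ Z) (h2 : g2 ∈ Z)
    (h3 : g3 ∈ Z) : ∀ k : K4, sel g1 g2 g3 k ∈ Z := by
  intro k
  obtain ⟨n⟩ := k
  fin_cases n
  · exact Z.one_mem
  · exact h1
  · exact h2
  · exact h3

end Cfsg.Agent.Lib.Helper47.T64
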