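import Mathlib
import Cfsg.Agent.Lib.Helper47.T64.Defs

set_option autoImplicit false

namespace Cfsg.Agent.Lib.Helper47.T64

open Cfsg.Agent.Lib.Helper54 (K4)
open scoped commutatorElement

theorem card_inv_subgroup {T : Type*} [Group T] [Finite T] (hT : Nat.card T = 64) (ρ : MulAut T)
    (h3 : ∀ g, ρ (ρ (ρ g)) = g) (hfp : ∀ g, ρ g = g → g = 1)
    (N : Subgroup T) (hN : ∀ n ∈ N, ρ n ∈ N) :
    Nat.card N = 1 ∨ Nat.card N = 4 ∨ Nat.card N = 16 ∨ Nat.card N = 64 := by
  classical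
  haveI := Fintype.ofFinite N
  haveI : Fact (Nat.Prime 3) := ⟨Nat.prime_three⟩
  let f : Function.End N := fun n => ⟨ρ n, hN n n.2⟩
  have hf : f ^ 3 ^ 1 = 1 := by
    have e : f ^ 3 ^ 1 = f * f * f := by rw [pow_one, pow_succ, pow_succ, pow_one]
    rw [e]
    funext n
    apply Subtype.ext
    exact h3 n
  have h1 := Equiv.Perm.card_fixedPoints_modEq hf
  have h2 : Fintype.card (Function.fixedPoints f) = 1 := by
    rw [Fintype.card_eq_one_iff]
    refine ⟨⟨1, ?_⟩, ?_⟩
    · apply Subtype.ext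
      exact map_one ρ
    · rintro ⟨n, hn⟩
      apply Subtype.ext
      apply Subtype.ext
      have h4 : ρ n = n := congrArg Subtype.val hn
      exact hfp _ h4
  have h3' : Nat.card N % 3 = 1 := by
    rw [Nat.card_eq_fintype_card]
    rw [h2] at h1
    exact h1
  have hd : Nat.card N ∣ 2 ^ 6 := by
    have h5 := Subgroup.card_subgroup_dvd_card N
    rw [hT] at h5
    exact h5
  obtain ⟨k, hk, hk'⟩ := (Nat.dvd_prime_pow Nat.prime_two).1 hd
  rw [hk'] at h3' ⊢
  interval_cases k <;> simp_all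

end Cfsg.Agent.Lib.Helper47.T64
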