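import Mathlib
import Cfsg.Agent.Lib.Helper47.T64.Defs

set_option autoImplicit false

namespace Cfsg.Agent.Lib.Helper47.T64

open Cfsg.Agent.Lib.Helper54 (K4)
open scoped commutatorElement

theorem line_inv {T : Type*} [Group T] (ρ : MulAut T) (h3 : ∀ g, ρ (ρ (ρ g)) = g)
    (tr : ∀ g, g * ρ g * ρ (ρ g) = 1) (g : T) : ∀ y ∈ line ρ g, ρ y ∈ line ρ g := by
  have hg : g ∈ Subgroup.closure ({g, ρ g} : Set T) := Subgroup.subset_closure (by simp)
  have hg' : ρ g ∈ Subgroup.closure ({g, ρ g} : Set T) := Subgroup.subset_closure (by simp)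
  have hl : Subgroup.closure ({g, ρ g} : Set T) ≤ line ρ g := le_sup_left
  have hle : line ρ g ≤ (line ρ g).comap ρ.toMonoidHom := by
    apply sup_le
    · rw [Subgroup.closure_le]
      intro y hy
      simp only [Set.mem_insert_iff, Set.mem_singleton_iff] at hy
      rcases hy with rfl | rfl
      · exact hl hg'
      · have h4 : ρ (ρ g) = (g * ρ g)⁻¹ := eq_inv_of_mul_eq_one_right (tr g)
        change ρ (ρ g) ∈ line ρ g
        rw [h4]
        exact hl (inv_mem (mul_mem hg hg'))
    · intro z hz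
      change ρ z ∈ line ρ g
      apply (le_sup_right : Subgroup.center T ≤ line ρ g)
      rw [Subgroup.mem_center_iff] at hz ⊢
      intro t
      obtain ⟨t', rfl⟩ : ∃ t', t = ρ t' := ⟨ρ (ρ t), (h3 t).symm⟩
      rw [← map_mul, ← map_mul, hz]
  intro y hy
  exact hle hy

theorem line_comm {T : Type*} [Group T] (ρ : MulAut T) (cm : ∀ g, g * ρ g = ρ g * g) (g : T) :
    ∀ y ∈ line ρ g, ∀ y' ∈ line ρ g, y * y' = y' * y := by
  have hS : ∀ a ∈ ({g, ρ g} : Set T), ∀ b ∈ ({g, ρ g} : Set T), a * b = b * a := by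
    intro a ha b hb
    simp only [Set.mem_insert_iff, Set.mem_singleton_iff] at ha hb
    rcases ha with rfl | rfl <;> rcases hb with rfl | rfl
    · rfl
    · exact cm _
    · exact (cm _).symm
    · rfl
  have hA : Subgroup.closure {g, ρ g} ≤ Subgroup.centralizer ({g, ρ g} : Set T) := by
    rw [Subgroup.closure_le]
    intro a ha
    rw [SetLike.mem_coe, Subgroup.mem_centralizer_iff]
    intro b hb
    exact hS b hb a ha
  have hB : Subgroup.closure {g, ρ g} ≤
      Subgroup.centralizer (Subgroup.closure {g, ρ g} : Set T) := by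
    rw [Subgroup.closure_le]
    intro a ha
    rw [SetLike.mem_coe, Subgroup.mem_centralizer_iff]
    intro b hb
    exact ((Subgroup.mem_centralizer_iff.1 (hA hb)) a ha).symm
  have s1 : line ρ g ≤ Subgroup.centralizer (Subgroup.closure {g, ρ g} : Set T) :=
    sup_le hB (Subgroup.center_le_centralizer _)
  have s2 : Subgroup.closure {g, ρ g} ≤ Subgroup.centralizer (line ρ g : Set T) :=
    Subgroup.le_centralizer_iff.1 s1
  have s3 : line ρ g ≤ Subgroup.centralizer (line ρ g : Set T) :=
    sup_le s2 (Subgroup.center_le_centralizer _)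
  intro y hy y' hy'
  exact (Subgroup.mem_centralizer_iff.1 (s3 hy')) y hy

theorem mem_line {T : Type*} [Group T] (ρ : MulAut T) (g : T) : g ∈ line ρ g :=
  (le_sup_left : Subgroup.closure {g, ρ g} ≤ line ρ g) (Subgroup.subset_closure (by simp))

theorem center_le_line {T : Type*} [Group T] (ρ : MulAut T) (g : T) :
    Subgroup.center T ≤ line ρ g := le_sup_right

end Cfsg.Agent.Lib.Helper47.T64
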