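import Mathlib
import Cfsg.Agent.Lib.Helper47.T64.Defs
import Cfsg.Agent.Lib.Helper47.T64.A3a

set_option autoImplicit false

namespace Cfsg.Agent.Lib.Helper47.T64

open Cfsg.Agent.Lib.Helper54 (K4)
open scoped commutatorElement

theorem card_center {T : Type*} [Group T] [Finite T] (hT : Nat.card T = 64)
    (hna : ∃ g h : T, g * h ≠ h * g) (ρ : MulAut T) (h3 : ∀ g, ρ (ρ (ρ g)) = g)
    (hc : ∀ N : Subgroup T, (∀ n ∈ N, ρ n ∈ N) →
      Nat.card N = 1 ∨ Nat.card N = 4 ∨ Nat.card N = 16 ∨ Nat.card N = 64)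
    (hli : ∀ g, ∀ y ∈ line ρ g, ρ y ∈ line ρ g)
    (hlc : ∀ g, ∀ y ∈ line ρ g, ∀ y' ∈ line ρ g, y * y' = y' * y) :
    Nat.card (Subgroup.center T) = 4 := by
  have hZinv : ∀ z ∈ Subgroup.center T, ρ z ∈ Subgroup.center T := by
    intro z hz
    rw [Subgroup.mem_center_iff] at hz ⊢
    intro t
    obtain ⟨t', rfl⟩ : ∃ t', t = ρ t' := ⟨ρ (ρ t), (h3 t).symm⟩
    rw [← map_mul, ← map_mul, hz]
  obtain ⟨a, b, hab⟩ := hna
  have hnt : Subgroup.center T ≠ ⊤ := by
    intro h
    apply hab
    have h4 : a ∈ Subgroup.center T := by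
      rw [h]
      trivial
    exact ((Subgroup.mem_center_iff.1 h4) b).symm
  rcases hc _ hZinv with h | h | h | h
  · exfalso
    have hp : IsPGroup 2 T := IsPGroup.of_card (n := 6) (by rw [hT]; norm_num)
    haveI : Nontrivial T := by
      apply Finite.one_lt_card_iff_nontrivial.1
      rw [hT]
      norm_num
    have h5 : Nontrivial (Subgroup.center T) := hp.center_nontrivial
    have h6 := Finite.one_lt_card_iff_nontrivial.2 h5
    omega
  · exact h
  · exfalso
    obtain ⟨g, hg⟩ : ∃ g, g ∉ Subgroup.center T := by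
      by_contra hcon
      push_neg at hcon
      exact hnt ((Subgroup.eq_top_iff' _).2 hcon)
    have hlt : Nat.card (Subgroup.center T) < Nat.card (line ρ g) := by
      have hle := center_le_line ρ g
      have hne : Subgroup.center T ≠ line ρ g := by
        intro he
        apply hg
        rw [he]
        exact mem_line ρ g
      by_contra hcon
      exact hne (Subgroup.eq_of_le_of_card_ge hle (not_lt.1 hcon))
    have h64 : Nat.card (line ρ g) = 64 := by
      rcases hc _ (hli g) with h' | h' | h' | h' <;> omega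
    have htop : line ρ g = ⊤ := Subgroup.eq_top_of_card_eq _ (by rw [h64, hT])
    apply hab
    exact hlc g a (by rw [htop]; trivial) b (by rw [htop]; trivial)
  · exact absurd (Subgroup.eq_top_of_card_eq _ (by rw [h, hT])) hnt

end Cfsg.Agent.Lib.Helper47.T64
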