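import Mathlib
import Cfsg.Agent.Lib.Helper47.T64.Defs
import Cfsg.Agent.Lib.Helper47.T64.A3a

set_option autoImplicit false

/-! T64 piece A3c.  For non-central `g` the subgroup `line ρ g` has order 16 and is normal. -/
namespace Cfsg.Agent.Lib.Helper47.T64

open Cfsg.Agent.Lib.Helper54 (K4)
open scoped commutatorElement

theorem card_line {T : Type*} [Group T] [Finite T] (hT : Nat.card T = 64)
    (hna : ∃ g h : T, g * h ≠ h * g) (ρ : MulAut T)
    (hc : ∀ N : Subgroup T, (∀ n ∈ N, ρ n ∈ N) →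
      Nat.card N = 1 ∨ Nat.card N = 4 ∨ Nat.card N = 16 ∨ Nat.card N = 64)
    (hli : ∀ g, ∀ y ∈ line ρ g, ρ y ∈ line ρ g)
    (hlc : ∀ g, ∀ y ∈ line ρ g, ∀ y' ∈ line ρ g, y * y' = y' * y)
    (hZ : Nat.card (Subgroup.center T) = 4) (g : T) (hg : g ∉ Subgroup.center T) :
    Nat.card (line ρ g) = 16 := by
  have hlt : Subgroup.center T < line ρ g := by
    refine lt_of_le_of_ne (center_le_line ρ g) ?_
    intro h
    exact hg (h ▸ mem_line ρ g)
  have h4 : 4 < Nat.card (line ρ g) := by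
    rw [← hZ]
    exact Set.ncard_lt_ncard (s := (Subgroup.center T : Set T)) (t := (line ρ g : Set T))
      (by exact_mod_cast hlt) (Set.toFinite _)
  rcases hc (line ρ g) (hli g) with h | h | h | h
  · omega
  · omega
  · exact h
  · exfalso
    have htop : line ρ g = ⊤ := Subgroup.eq_top_of_card_eq _ (by rw [h, hT])
    obtain ⟨a, b, hab⟩ := hna
    exact hab (hlc g a (by rw [htop]; trivial) b (by rw [htop]; trivial))

theorem line_normal {T : Type*} [Group T] [Finite T] (hT : Nat.card T = 64)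
    (ρ : MulAut T) (h3 : ∀ g, ρ (ρ (ρ g)) = g)
    (hc : ∀ N : Subgroup T, (∀ n ∈ N, ρ n ∈ N) →
      Nat.card N = 1 ∨ Nat.card N = 4 ∨ Nat.card N = 16 ∨ Nat.card N = 64)
    (hli : ∀ g, ∀ y ∈ line ρ g, ρ y ∈ line ρ g)
    (g : T) (hL : Nat.card (line ρ g) = 16) :
    ∀ t : T, ∀ y ∈ line ρ g, t * y * t⁻¹ ∈ line ρ g := by
  set L := line ρ g with hLdef
  have hiff : ∀ y, ρ y ∈ L ↔ y ∈ L := by
    intro y
    refine ⟨fun h => ?_, fun h => hli g y h⟩
    have := hli g _ (hli g _ h)
    rwa [h3] at this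
  have hNinv : ∀ n ∈ Subgroup.normalizer (L : Set T), ρ n ∈ Subgroup.normalizer (L : Set T) := by
    intro n hn
    rw [Subgroup.mem_normalizer_iff] at hn ⊢
    intro y
    have e : ρ n * y * (ρ n)⁻¹ = ρ (n * ρ (ρ y) * n⁻¹) := by
      simp only [map_mul, map_inv, h3]
    rw [e, hiff, ← hn, hiff, hiff]
  have hp : IsPGroup 2 T := IsPGroup.of_card (n := 6) (by rw [hT]; norm_num)
  haveI : Fact (Nat.Prime 2) := ⟨Nat.prime_two⟩
  haveI : Group.IsNilpotent T := hp.isNilpotent
  have hne : L ≠ ⊤ := by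
    intro h
    have : Nat.card L = Nat.card T := by rw [h]; exact Subgroup.card_top
    omega
  have hlt : L < Subgroup.normalizer (L : Set T) :=
    Group.normalizerCondition_of_isNilpotent L (lt_top_iff_ne_top.2 hne)
  have h16 : 16 < Nat.card (Subgroup.normalizer (L : Set T)) := by
    rw [← hL]
    exact Set.ncard_lt_ncard (s := (L : Set T)) (t := (Subgroup.normalizer (L : Set T) : Set T))
      (by exact_mod_cast hlt) (Set.toFinite _)
  have htop : Subgroup.normalizer (L : Set T) = ⊤ := by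
    rcases hc _ hNinv with h | h | h | h
    · omega
    · omega
    · omega
    · exact Subgroup.eq_top_of_card_eq _ (by rw [h, hT])
  intro t y hy
  have ht : t ∈ Subgroup.normalizer (L : Set T) := by rw [htop]; trivial
  exact (Subgroup.mem_normalizer_iff.1 ht y).1 hy

end Cfsg.Agent.Lib.Helper47.T64
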