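import Mathlib
import Cfsg.Agent.Lib.Helper47.T64.Defs
import Cfsg.Agent.Lib.Helper47.T64.A3a

set_option autoImplicit false

/-! T64 piece A3d.  All commutators are central. -/
namespace Cfsg.Agent.Lib.Helper47.T64

open Cfsg.Agent.Lib.Helper54 (K4)
open scoped commutatorElement

theorem comm_mem_center {T : Type*} [Group T] [Finite T] (ρ : MulAut T)
    (hc : ∀ N : Subgroup T, (∀ n ∈ N, ρ n ∈ N) →
      Nat.card N = 1 ∨ Nat.card N = 4 ∨ Nat.card N = 16 ∨ Nat.card N = 64)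
    (hli : ∀ g, ∀ y ∈ line ρ g, ρ y ∈ line ρ g)
    (hlc : ∀ g, ∀ y ∈ line ρ g, ∀ y' ∈ line ρ g, y * y' = y' * y)
    (hZ : Nat.card (Subgroup.center T) = 4)
    (hL : ∀ g, g ∉ Subgroup.center T → Nat.card (line ρ g) = 16)
    (hn : ∀ g, g ∉ Subgroup.center T → ∀ t : T, ∀ y ∈ line ρ g, t * y * t⁻¹ ∈ line ρ g)
    (g h : T) : ⁅g, h⁆ ∈ Subgroup.center T := by
  have hone : g * h = h * g → ⁅g, h⁆ ∈ Subgroup.center T := by
    intro hgh
    have : ⁅g, h⁆ = 1 := by rw [commutatorElement_def, hgh]; group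
    rw [this]; exact one_mem _
  by_cases hg : g ∈ Subgroup.center T
  · exact hone ((Subgroup.mem_center_iff.1 hg h).symm)
  by_cases hh : h ∈ Subgroup.center T
  · exact hone (Subgroup.mem_center_iff.1 hh g)
  by_cases hhg : h ∈ line ρ g
  · exact hone (hlc g g (mem_line ρ g) h hhg)
  have hIinv : ∀ n ∈ line ρ g ⊓ line ρ h, ρ n ∈ line ρ g ⊓ line ρ h :=
    fun n hn' => ⟨hli g n hn'.1, hli h n hn'.2⟩
  have hZI : Subgroup.center T ≤ line ρ g ⊓ line ρ h :=
    le_inf (center_le_line ρ g) (center_le_line ρ h)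
  have h4 : 4 ≤ Nat.card ↥(line ρ g ⊓ line ρ h) := hZ ▸ Subgroup.card_le_of_le hZI
  have h16 : Nat.card ↥(line ρ g ⊓ line ρ h) ≤ 16 :=
    hL h hh ▸ Subgroup.card_le_of_le (inf_le_right : line ρ g ⊓ line ρ h ≤ line ρ h)
  have hne16 : Nat.card ↥(line ρ g ⊓ line ρ h) ≠ 16 := by
    intro h1
    have heq : line ρ g ⊓ line ρ h = line ρ h :=
      Subgroup.eq_of_le_of_card_ge inf_le_right (by rw [hL h hh, h1])
    apply hhg
    have : h ∈ line ρ g ⊓ line ρ h := by rw [heq]; exact mem_line ρ h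
    exact this.1
  have hI4 : Nat.card ↥(line ρ g ⊓ line ρ h) = 4 := by
    rcases hc _ hIinv with h | h | h | h <;> omega
  have heq : Subgroup.center T = line ρ g ⊓ line ρ h :=
    Subgroup.eq_of_le_of_card_ge hZI (by rw [hZ, hI4])
  rw [heq]
  constructor
  · have h1 : ⁅g, h⁆ = g * (h * g⁻¹ * h⁻¹) := by rw [commutatorElement_def]; group
    rw [h1]
    exact (line ρ g).mul_mem (mem_line ρ g) (hn g hg h _ ((line ρ g).inv_mem (mem_line ρ g)))
  · rw [commutatorElement_def]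
    exact (line ρ h).mul_mem (hn h hh g _ (mem_line ρ h)) ((line ρ h).inv_mem (mem_line ρ h))

end Cfsg.Agent.Lib.Helper47.T64
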