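import Mathlib
import Cfsg.Agent.Lib.Helper47.T64.Defs

set_option autoImplicit false

/-! T64 piece A3e.  The centre is elementary abelian, and squares are central. -/
namespace Cfsg.Agent.Lib.Helper47.T64

open Cfsg.Agent.Lib.Helper54 (K4)
open scoped commutatorElement

theorem center_sq {T : Type*} [Group T] [Finite T] (ρ : MulAut T) (h3 : ∀ g, ρ (ρ (ρ g)) = g)
    (hc : ∀ N : Subgroup T, (∀ n ∈ N, ρ n ∈ N) →
      Nat.card N = 1 ∨ Nat.card N = 4 ∨ Nat.card N = 16 ∨ Nat.card N = 64)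
    (hZ : Nat.card (Subgroup.center T) = 4) : ∀ z ∈ Subgroup.center T, z * z = 1 := by
  have hρc : ∀ z ∈ Subgroup.center T, ρ z ∈ Subgroup.center T := by
    intro z hz
    rw [Subgroup.mem_center_iff] at hz ⊢
    intro t
    have := congrArg ρ (hz (ρ (ρ t)))
    rw [map_mul, map_mul, h3] at this
    exact this
  let Ω : Subgroup T :=
    { carrier := {z | z ∈ Subgroup.center T ∧ z * z = 1}
      one_mem' := ⟨one_mem _, one_mul 1⟩
      mul_mem' := by
        rintro a b ⟨ha, ha2⟩ ⟨hb, hb2⟩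
        refine ⟨mul_mem ha hb, ?_⟩
        have h1 : b * a = a * b := (Subgroup.mem_center_iff.1 ha) b
        calc a * b * (a * b) = a * (b * a) * b := by group
          _ = a * (a * b) * b := by rw [h1]
          _ = (a * a) * (b * b) := by group
          _ = 1 := by rw [ha2, hb2, one_mul]
      inv_mem' := by
        rintro a ⟨ha, ha2⟩
        refine ⟨inv_mem ha, ?_⟩
        rw [← mul_inv_rev, ha2, inv_one] }
  have hΩle : Ω ≤ Subgroup.center T := fun z hz => hz.1
  have hΩinv : ∀ n ∈ Ω, ρ n ∈ Ω := by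
    rintro n ⟨hn, hn2⟩
    exact ⟨hρc n hn, by rw [← map_mul, hn2, map_one]⟩
  have hle : Nat.card Ω ≤ 4 := hZ ▸ Subgroup.card_le_of_le hΩle
  have : Fact (Nat.Prime 2) := ⟨Nat.prime_two⟩
  obtain ⟨e, he⟩ := exists_prime_orderOf_dvd_card' (G := Subgroup.center T) 2 (by rw [hZ]; norm_num)
  have he' : orderOf (e : T) = 2 := by rw [Subgroup.orderOf_coe]; exact he
  have heΩ : (e : T) ∈ Ω := by
    refine ⟨e.2, ?_⟩
    have := pow_orderOf_eq_one (e : T)
    rwa [he', pow_two] at this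
  have hne : Nat.card Ω ≠ 1 := by
    intro h1
    have hb : Ω = ⊥ := Subgroup.card_eq_one.1 h1
    rw [hb, Subgroup.mem_bot] at heΩ
    rw [heΩ, orderOf_one] at he'
    omega
  have h4 : Nat.card Ω = 4 := by
    rcases hc Ω hΩinv with h | h | h | h <;> omega
  have heq : Ω = Subgroup.center T := Subgroup.eq_of_le_of_card_ge hΩle (by rw [hZ, h4])
  intro z hz
  rw [← heq] at hz
  exact hz.2

theorem sq_mem_center {T : Type*} [Group T]
    (hcm : ∀ g h : T, ⁅g, h⁆ ∈ Subgroup.center T)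
    (hsq : ∀ z ∈ Subgroup.center T, z * z = 1) (g : T) : g * g ∈ Subgroup.center T := by
  rw [Subgroup.mem_center_iff]
  intro h
  have hw := hcm g h
  have hw2 := hsq _ hw
  have hwc := Subgroup.mem_center_iff.1 hw
  have e1 : g * h = ⁅g, h⁆ * (h * g) := by rw [commutatorElement_def]; group
  symm
  calc g * g * h = g * (g * h) := by group
    _ = g * (⁅g, h⁆ * (h * g)) := by rw [← e1]
    _ = (g * ⁅g, h⁆) * (h * g) := by group
    _ = (⁅g, h⁆ * g) * (h * g) := by rw [hwc g]
    _ = ⁅g, h⁆ * (g * h) * g := by group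
    _ = ⁅g, h⁆ * (⁅g, h⁆ * (h * g)) * g := by rw [← e1]
    _ = (⁅g, h⁆ * ⁅g, h⁆) * (h * (g * g)) := by group
    _ = h * (g * g) := by rw [hw2, one_mul]

end Cfsg.Agent.Lib.Helper47.T64
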