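import Mathlib
import Cfsg.Agent.Lib.Helper47.T64.Defs

set_option autoImplicit false

namespace Cfsg.Agent.Lib.Helper47.T64

open Cfsg.Agent.Lib.Helper54 (K4)
open scoped commutatorElement

/-- the matrix of an element of the Heisenberg group -/
def H1_mat (x : Heis K4) : Matrix (Fin 3) (Fin 3) K4 := !![1, x.s, x.c; 0, 1, x.t; 0, 0, 1]

theorem H1_det (x : Heis K4) : (H1_mat x).det = 1 := by
  rw [H1_mat, Matrix.det_fin_three]
  simp

theorem H1_mul (x y : Heis K4) : H1_mat (x * y) = H1_mat x * H1_mat y := by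
  ext i j
  fin_cases i <;> fin_cases j <;>
    simp [H1_mat, Matrix.mul_apply, Fin.sum_univ_three, Heis.mul_s, Heis.mul_t, Heis.mul_c] <;> ring

/-- the embedding in `SL₃` -/
def H1_toSL : Heis K4 →* Matrix.SpecialLinearGroup (Fin 3) K4 where
  toFun x := ⟨H1_mat x, H1_det x⟩
  map_one' := by
    apply Subtype.ext
    show H1_mat 1 = 1
    ext i j
    fin_cases i <;> fin_cases j <;> simp [H1_mat, Heis.one_s, Heis.one_t, Heis.one_c]
  map_mul' x y := by
    apply Subtype.ext
    show H1_mat (x * y) = H1_mat x * H1_mat y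
    exact H1_mul x y

theorem exists_inj_PSL :
    ∃ f : Heis K4 →* Matrix.ProjectiveSpecialLinearGroup (Fin 3) K4, Function.Injective f := by
  refine ⟨(QuotientGroup.mk' (Subgroup.center (Matrix.SpecialLinearGroup (Fin 3) K4))).comp H1_toSL,
    ?_⟩
  rw [injective_iff_map_eq_one]
  intro x hx
  have h1 : H1_toSL x ∈ Subgroup.center (Matrix.SpecialLinearGroup (Fin 3) K4) :=
    (QuotientGroup.eq_one_iff _).mp hx
  rw [Matrix.SpecialLinearGroup.mem_center_iff] at h1
  obtain ⟨r, _, hr⟩ := h1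
  have hm : (Matrix.scalar (Fin 3) r : Matrix (Fin 3) (Fin 3) K4) = H1_mat x := hr
  have a1 := congrFun (congrFun hm 0) 1
  have a2 := congrFun (congrFun hm 1) 2
  have a3 := congrFun (congrFun hm 0) 2
  simp [H1_mat, Matrix.scalar_apply] at a1 a2 a3
  apply Heis.ext
  · exact a1.symm
  · exact a2.symm
  · exact a3.symm

end Cfsg.Agent.Lib.Helper47.T64
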