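import Mathlib
import Cfsg.Agent.Lib.Helper47.T64.Defs
import Cfsg.Agent.S0243

set_option autoImplicit false

/-! T64 piece H2.  Orders, and a generic Sylow lemma. -/
namespace Cfsg.Agent.Lib.Helper47.T64

open Cfsg.Agent.Lib.Helper54 (K4)
open scoped commutatorElement

theorem card_heis : Nat.card (Heis K4) = 64 := by
  have e : Heis K4 ≃ K4 × K4 × K4 :=
    ⟨fun x => (x.s, x.t, x.c), fun y => ⟨y.1, y.2.1, y.2.2⟩, fun _ => rfl, fun _ => rfl⟩
  rw [Nat.card_congr e, Nat.card_prod, Nat.card_prod, Nat.card_eq_fintype_card, K4.card_eq]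

theorem card_psl : Nat.card (Matrix.ProjectiveSpecialLinearGroup (Fin 3) K4) = 2 ^ 6 * 315 := by
  have h := Cfsg.Agent.S0243.result (F := K4) (q := 4) K4.card_eq 3 (by norm_num)
  have e : ∏ i : Fin 3, (4 ^ 3 - 4 ^ (i : ℕ)) = 181440 := by decide +kernel
  rw [e] at h
  have g : Nat.gcd 3 (4 - 1) = 3 := by decide
  rw [g] at h
  generalize Nat.card (Matrix.ProjectiveSpecialLinearGroup (Fin 3) K4) = c at h ⊢
  omega

theorem exists_sylow_iso {G H : Type*} [Group G] [Finite G] [Group H] (p k m : ℕ) [Fact p.Prime]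
    (hG : Nat.card G = p ^ k * m) (hm : ¬ p ∣ m) (hH : Nat.card H = p ^ k)
    (f : H →* G) (hf : Function.Injective f) :
    ∃ S : Sylow p G, Nonempty (H ≃* ↥(S : Subgroup G)) := by
  have hp : p.Prime := Fact.out
  have hcard : Nat.card f.range = p ^ k := by
    rw [← hH]
    exact (Nat.card_congr (MonoidHom.ofInjective hf).toEquiv).symm
  have hP : IsPGroup p f.range := IsPGroup.of_card hcard
  obtain ⟨S, hS⟩ := hP.exists_le_sylow
  have hm0 : m ≠ 0 := by
    rintro rfl
    exact hm (dvd_zero p)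
  have hScard : Nat.card (S : Subgroup G) = p ^ k := by
    rw [Sylow.card_eq_multiplicity, hG, Nat.factorization_mul (pow_ne_zero _ hp.ne_zero) hm0,
      Nat.Prime.factorization_pow hp]
    simp [Nat.factorization_eq_zero_of_not_dvd hm]
  have heq : f.range = (S : Subgroup G) :=
    Subgroup.eq_of_le_of_card_ge hS (by rw [hcard, hScard])
  exact ⟨S, ⟨(MonoidHom.ofInjective hf).trans (MulEquiv.subgroupCongr heq)⟩⟩

end Cfsg.Agent.Lib.Helper47.T64
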