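import Mathlib
import Cfsg.Agent.Lib.Helper47.T64.Defs
import Cfsg.Agent.Lib.Helper47.T64.B1
import Cfsg.Agent.Lib.Helper47.T64.B2

set_option autoImplicit false

/-! T64 piece H4.  The commutation rule between the two "root subgroups". -/
namespace Cfsg.Agent.Lib.Helper47.T64

open Cfsg.Agent.Lib.Helper54 (K4)
open scoped commutatorElement

variable {T : Type*} [Group T] {ρ : MulAut T} {Z : Subgroup T}

theorem H4_cases (P : K4 → Prop) (h0 : P ⟨0⟩) (h1 : P ⟨1⟩) (h2 : P ⟨2⟩) (h3 : P ⟨3⟩) :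
    ∀ s, P s := by
  rintro ⟨n⟩
  fin_cases n
  · exact h0
  · exact h1
  · exact h2
  · exact h3

theorem H4_comm (c : Cfg ρ Z) (a b : T) : ∀ s t : K4,
    ⁅sel a (ρ a) (ρ (ρ a)) s, sel b (ρ b) (ρ (ρ b)) t⁆ =
        sel ⁅a, b⁆ (ρ (ρ ⁅a, b⁆)) (ρ ⁅a, b⁆) (s * t) := by
  refine H4_cases _ ?_ ?_ ?_ ?_ <;> refine H4_cases _ ?_ ?_ ?_ ?_
  · exact commutatorElement_one_left _
  · exact commutatorElement_one_left _
  · exact commutatorElement_one_left _
  · exact commutatorElement_one_left _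
  · exact commutatorElement_one_right _
  · rfl
  · exact twist_right c a b
  · exact twist_right2 c a b
  · exact commutatorElement_one_right _
  · exact twist_left c a b
  · exact (comm_rho a b).symm
  · show ⁅ρ a, ρ (ρ b)⁆ = ⁅a, b⁆
    rw [← comm_rho, twist_right c, c.cube]
  · exact commutatorElement_one_right _
  · exact twist_left2 c a b
  · show ⁅ρ (ρ a), ρ b⁆ = ⁅a, b⁆
    rw [← comm_rho, twist_left c, c.cube]
  · show ⁅ρ (ρ a), ρ (ρ b)⁆ = ρ (ρ ⁅a, b⁆)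
    rw [← comm_rho, ← comm_rho]

theorem kappa (c : Cfg ρ Z) (a b : T) : ∀ s t : K4,
    sel a (ρ a) (ρ (ρ a)) s * sel b (ρ b) (ρ (ρ b)) t =
      sel b (ρ b) (ρ (ρ b)) t * sel a (ρ a) (ρ (ρ a)) s *
        sel ⁅a, b⁆ (ρ (ρ ⁅a, b⁆)) (ρ ⁅a, b⁆) (s * t) := by
  intro s t
  rw [← H4_comm c a b s t]
  exact mul_eq c _ _

end Cfsg.Agent.Lib.Helper47.T64
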