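import Mathlib
import Cfsg.Agent.Lib.Helper47.T64.Defs
import Cfsg.Agent.Lib.Helper82.Rud.D8
import Cfsg.Agent.S0016

set_option autoImplicit false

/-! T64 piece Q.  A non-abelian group of order 8 is `D₈` or `Q₈`. -/
namespace Cfsg.Agent.Lib.Helper47.T64

open Cfsg.Agent.Lib.Helper54 (K4)
open scoped commutatorElement

/-- a subgroup with three distinct elements in a group of order 8 has order 4 or 8 -/
theorem Q_card_of_three {C : Type*} [Group C] [Finite C] (h8 : Nat.card C = 8)
    (K : Subgroup C) {a b : C} (ha : a ∈ K) (hb : b ∈ K) (ha1 : a ≠ 1) (hb1 : b ≠ 1)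
    (hab : a ≠ b) : Nat.card K = 4 ∨ Nat.card K = 8 := by
  classical
  have h3 : 3 ≤ Nat.card K := by
    have hc : ({1, a, b} : Finset C).card = 3 := by
      rw [Finset.card_eq_three]
      exact ⟨1, a, b, ha1.symm, hb1.symm, hab, rfl⟩
    have hsub : (({1, a, b} : Finset C) : Set C) ⊆ (K : Set C) := by
      intro x hx
      simp only [Finset.coe_insert, Finset.coe_singleton, Set.mem_insert_iff,
        Set.mem_singleton_iff] at hx
      rcases hx with rfl | rfl | rfl
      · exact K.one_mem
      · exact ha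
      · exact hb
    have := Set.ncard_le_ncard hsub (Set.toFinite _)
    rw [Set.ncard_coe_finset, hc] at this
    calc 3 ≤ (K : Set C).ncard := this
      _ = Nat.card K := (Nat.card_coe_set_eq _).symm
  have hd : Nat.card K ∣ 8 := h8 ▸ Subgroup.card_subgroup_dvd_card K
  have hle : Nat.card K ≤ 8 := Nat.le_of_dvd (by norm_num) hd
  generalize Nat.card K = n at *
  interval_cases n <;> simp_all

/-- unique involution when involutions commute -/
theorem Q_unique_inv {C : Type*} [Group C] [Finite C] (h8 : Nat.card C = 8)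
    (hna : ∃ a b : C, a * b ≠ b * a)
    (H : ∀ s s' : C, s * s = 1 → s' * s' = 1 → s * s' = s' * s)
    (t u : C) (ht1 : t ≠ 1) (hu1 : u ≠ 1) (ht : t * t = 1) (hu : u * u = 1) : t = u := by
  by_contra htu
  let E : Subgroup C :=
    { carrier := {s | s * s = 1}
      one_mem' := by simp
      mul_mem' := by
        intro a b ha hb
        have ha' : a * a = 1 := ha
        have hb' : b * b = 1 := hb
        show a * b * (a * b) = 1
        calc a * b * (a * b) = a * (b * a) * b := by group
          _ = a * (a * b) * b := by rw [H b a hb' ha']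
          _ = (a * a) * (b * b) := by group
          _ = 1 := by rw [ha', hb', one_mul]
      inv_mem' := by
        intro a ha
        have ha' : a * a = 1 := ha
        show a⁻¹ * a⁻¹ = 1
        rw [← mul_inv_rev, ha', inv_one] }
  have hE : ∀ s : C, s ∈ E ↔ s * s = 1 := fun s => Iff.rfl
  obtain ⟨a, b, hab⟩ := hna
  have hEtop : E ≠ ⊤ := by
    intro h
    apply hab
    exact H a b ((hE a).1 (h ▸ Subgroup.mem_top a)) ((hE b).1 (h ▸ Subgroup.mem_top b))
  have hE4 : Nat.card E = 4 := by
    rcases Q_card_of_three h8 E ((hE t).2 ht) ((hE u).2 hu) ht1 hu1 htu with h | h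
    · exact h
    · exact absurd (Subgroup.eq_top_of_card_eq E (by rw [h, h8])) hEtop
  have hidx : E.index = 2 := by
    have := E.card_mul_index
    rw [hE4, h8] at this
    omega
  have hnorm : E.Normal := Subgroup.normal_of_index_eq_two hidx
  obtain ⟨h, hh⟩ : ∃ h : C, h ∉ E := by
    by_contra hcon
    push Not at hcon
    exact hEtop (Subgroup.eq_top_iff' E |>.2 hcon)
  have hzE : h * h ∈ E := Subgroup.mul_self_mem_of_index_two hidx h
  have hz1 : h * h ≠ 1 := fun hc => hh ((hE h).2 hc)
  have hzz : (h * h) * (h * h) = 1 := (hE _).1 hzE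
  -- every element of `E` commutes with `h`
  have hcomm : ∀ e ∈ E, h * e = e * h := by
    intro e he
    have hee : e * e = 1 := (hE e).1 he
    have hconjE : h * e * h⁻¹ ∈ E := hnorm.conj_mem e he h
    have hcE : h * e * h⁻¹ * e ∈ E := E.mul_mem hconjE he
    have hc_h : h * e * h⁻¹ * e ∈ Subgroup.centralizer {h} := by
      rw [Subgroup.mem_centralizer_singleton_iff]
      have e1 : (h * h) * e = e * (h * h) := H _ _ hzz hee
      have e2 : (h * e * h⁻¹) * e = e * (h * e * h⁻¹) := H _ _ ((hE _).1 hconjE) hee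
      calc h * e * h⁻¹ * e * h = e * (h * e * h⁻¹) * h := by rw [e2]
        _ = (e * (h * h)) * h⁻¹ * e := by group
        _ = ((h * h) * e) * h⁻¹ * e := by rw [e1]
        _ = h * (h * e * h⁻¹ * e) := by group
    have hcz : h * e * h⁻¹ * e ≠ h * h := by
      intro hc
      have hheE : h * e ∉ E := by
        intro hm
        apply hh
        have := E.mul_mem hm (E.inv_mem he)
        simpa using this
      apply hheE
      rw [hE]
      have e1 : (h * h) * e = e * (h * h) := H _ _ hzz hee
      calc h * e * (h * e) = h * e * h⁻¹ * ((h * h) * e) := by group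
        _ = h * e * h⁻¹ * (e * (h * h)) := by rw [e1]
        _ = (h * e * h⁻¹ * e) * (h * h) := by group
        _ = 1 := by rw [hc, hzz]
    have hc1 : h * e * h⁻¹ * e = 1 := by
      by_contra hc1
      have hzF : h * h ∈ E ⊓ Subgroup.centralizer {h} := by
        rw [Subgroup.mem_inf]
        refine ⟨hzE, ?_⟩
        rw [Subgroup.mem_centralizer_singleton_iff]
        group
      have hcF : h * e * h⁻¹ * e ∈ E ⊓ Subgroup.centralizer {h} :=
        Subgroup.mem_inf.2 ⟨hcE, hc_h⟩
      have hF : Nat.card (E ⊓ Subgroup.centralizer {h} : Subgroup C) = 4 ∨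
          Nat.card (E ⊓ Subgroup.centralizer {h} : Subgroup C) = 8 :=
        Q_card_of_three h8 _ hzF hcF hz1 hc1 (Ne.symm hcz)
      have hFE : (E ⊓ Subgroup.centralizer {h} : Subgroup C) = E := by
        apply Subgroup.eq_of_le_of_card_ge inf_le_left
        rw [hE4]
        rcases hF with h | h <;> omega
      have heF : e ∈ E ⊓ Subgroup.centralizer {h} := by rw [hFE]; exact he
      have := (Subgroup.mem_inf.1 heF).2
      rw [Subgroup.mem_centralizer_singleton_iff] at this
      apply hc1
      calc h * e * h⁻¹ * e = (e * h) * h⁻¹ * e := by rw [this]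
        _ = e * e := by group
        _ = 1 := hee
    calc h * e = (h * e * h⁻¹ * e) * (e * e)⁻¹ * e * h := by group
      _ = e * h := by rw [hc1, hee]; group
  have hdec : ∀ x : C, ∃ e ∈ E, x = e ∨ x = h * e := by
    intro x
    by_cases hx : x ∈ E
    · exact ⟨x, hx, Or.inl rfl⟩
    · refine ⟨h⁻¹ * x, ?_, Or.inr (by group)⟩
      rw [Subgroup.mul_mem_iff_of_index_two hidx, inv_mem_iff]
      exact ⟨fun h1 => absurd h1 hh, fun h1 => absurd h1 hx⟩
  apply hab
  obtain ⟨e1, he1, ha⟩ := hdec a
  obtain ⟨e2, he2, hb⟩ := hdec b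
  have c12 : Commute e1 e2 := H _ _ ((hE _).1 he1) ((hE _).1 he2)
  have c1 : Commute h e1 := hcomm e1 he1
  have c2 : Commute h e2 := hcomm e2 he2
  rcases ha with rfl | rfl <;> rcases hb with rfl | rfl
  · exact c12
  · exact (c1.symm.mul_right c12 : Commute _ _)
  · exact (c2.mul_left c12 : Commute _ _)
  · exact (((Commute.refl h).mul_right c2).mul_left (c1.symm.mul_right c12) : Commute _ _)

theorem d8_or_q8 {C : Type*} [Group C] [Finite C] (h8 : Nat.card C = 8)
    (hna : ∃ a b : C, a * b ≠ b * a) :
    Nonempty (C ≃* DihedralGroup 4) ∨ Nonempty (C ≃* QuaternionGroup 2) := by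
  by_cases H : ∀ s s' : C, s * s = 1 → s' * s' = 1 → s * s' = s' * s
  · right
    have hu := Q_unique_inv h8 hna H
    have hP : IsPGroup 2 C := IsPGroup.of_card (n := 3) (by rw [h8]; norm_num)
    have key : ∀ A B : Subgroup C, Nat.card A = 2 → Nat.card B = 2 → A ≤ B := by
      intro A B hA hB x hx
      by_cases hx1 : x = 1
      · rw [hx1]; exact B.one_mem
      have hxx : x * x = 1 := by
        have : (⟨x, hx⟩ : A) ^ Nat.card A = 1 := pow_card_eq_one'
        rw [hA] at this
        have := congrArg Subtype.val this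
        simpa [pow_two] using this
      have hBn : Nontrivial B := by
        rw [← Finite.one_lt_card_iff_nontrivial, hB]; norm_num
      obtain ⟨y, hy⟩ := exists_ne (1 : B)
      have hyy : (y : C) * y = 1 := by
        have : y ^ Nat.card B = 1 := pow_card_eq_one'
        rw [hB] at this
        have := congrArg Subtype.val this
        simpa [pow_two] using this
      have hy1 : (y : C) ≠ 1 := fun hc => hy (Subtype.ext hc)
      rw [hu x y hx1 hy1 hxx hyy]
      exact y.2
    have _ : Fact (Nat.Prime 2) := ⟨Nat.prime_two⟩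
    rcases Cfsg.Agent.S0016.result 2 hP
      (fun A B hA hB => le_antisymm (key A B hA hB) (key B A hB hA)) with hc | ⟨-, n, ⟨e⟩⟩
    · exfalso
      obtain ⟨a, b, hab⟩ := hna
      obtain ⟨g, hg⟩ := hc.exists_generator
      obtain ⟨i, rfl⟩ := hg a
      obtain ⟨j, rfl⟩ := hg b
      apply hab
      rw [← zpow_add, ← zpow_add, add_comm]
    · have hc := Nat.card_congr e.toEquiv
      have _ : NeZero (2 ^ n) := ⟨by positivity⟩
      rw [h8, Nat.card_eq_fintype_card, QuaternionGroup.card] at hc
      have hn : 2 ^ n = 2 := by omega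
      rw [hn] at e
      exact ⟨e⟩
  · left
    push Not at H
    obtain ⟨s, s', hs, hs', hne⟩ := H
    exact Cfsg.Agent.Lib.Helper82.Rud.d8 h8 s s' hs hs' hne

end Cfsg.Agent.Lib.Helper47.T64
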