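import Mathlib
import Cfsg.Agent.Lib.Helper47.T64.Defs
import Cfsg.Agent.Lib.Helper47.T64.B1
import Cfsg.Agent.Lib.Helper47.T64.B3

set_option autoImplicit false

/-! T64 piece X2.  Lifting: an element fixed by `x` modulo `Z` can be corrected by an element of `Z` to a fixed point.

PROOF. `g = x (x g) = x (g * z) = x g * x z = g * z * x z`, so `z * x z = 1`, i.e. `x z = z⁻¹ = z` (`c.zsq`).
Then `x (g * ρ z) = x g * x (ρ z) = g * z * ρ (ρ (x z)) = g * (z * ρ (ρ z))`, and `z * ρ (ρ z) = ρ z` : by `tr_Z`, `z * ρ z = ρ (ρ z)`, so `z * ρ (ρ z) = z * (z * ρ z) = ρ z` (`c.zsq`). -/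
namespace Cfsg.Agent.Lib.Helper47.T64

open Cfsg.Agent.Lib.Helper54 (K4)
open scoped commutatorElement

variable {T : Type*} [Group T] {ρ : MulAut T} {Z : Subgroup T}

theorem lift_fixed (c : Cfg ρ Z) (x : MulAut T) (hx2 : ∀ g, x (x g) = g)
    (hxr : ∀ g, x (ρ g) = ρ (ρ (x g))) (g z : T) (hz : z ∈ Z) (h : x g = g * z) :
    x (g * ρ z) = g * ρ z := by
  have h1 : z * x z = 1 := by
    have h2 : x (x g) = g := hx2 g
    rw [h, map_mul, h] at h2
    have h3 : g * (z * x z) = g * 1 := by rw [mul_one, ← mul_assoc]; exact h2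
    exact mul_left_cancel h3
  have hxz : x z = z := by
    have h3 : z * x z = z * z := by rw [h1, c.zsq z hz]
    exact mul_left_cancel h3
  have h4 : z * ρ (ρ z) = ρ z := by
    rw [← tr_Z c z hz, ← mul_assoc, c.zsq z hz, one_mul]
  rw [map_mul, h, hxr, hxz, mul_assoc, h4]

end Cfsg.Agent.Lib.Helper47.T64
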