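import Mathlib
import Cfsg.Agent.Lib.Helper47.T64.Defs
import Cfsg.Agent.Lib.Helper47.T64.B1
import Cfsg.Agent.Lib.Helper47.T64.B3
import Cfsg.Agent.Lib.Helper47.T64.X2

set_option autoImplicit false

/-! T64 piece X3.  Every element is `c1 * ρ c2 * z` with `c1`, `c2` fixed by `x` and `z ∈ Z`.

PROOF. Call `u ≡ v` if `u⁻¹ * v ∈ Z` (equivalently `v = u * z`, `z ∈ Z`).  Modulo `Z` everything commutes and squares vanish (`c.comm`, `c.sq`, `c.cen`); it may be convenient to work in `T ⧸ Z`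
(`Z` is normal since it is central) where `mk u * mk v = mk v * mk u` and `mk u * mk u = 1`, or to push central factors by hand.
(1) `x (g * x g) = x g * g = g * x g * ⁅x g, g⁆` (`hx2`, `mul_eq`), so `c2 := g * x g * ρ ⁅x g, g⁆` is fixed by `x` (`lift_fixed`), and `c2 ≡ g * x g`.
(2) Let `d := g * ρ c2`.  `x d = x g * ρ (ρ c2)` (`hxr`, `x c2 = c2`).  Modulo `Z` : `d⁻¹ * x d ≡ g * x g * (ρ c2 * ρ (ρ c2)) ≡ g * x g * c2 ≡ c2 * c2 ≡ 1`, using `c2 * ρ c2 * ρ (ρ c2) = 1` (`c.tr`), i.e. `ρ c2 * ρ (ρ c2) = c2⁻¹ ≡ c2`.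
    So `x d = d * z1` with `z1 ∈ Z`, and `c1 := d * ρ z1` is fixed (`lift_fixed`).
(3) `g = d * (ρ c2)⁻¹ = d * ρ c2 * (ρ c2 * ρ c2)⁻¹ = c1 * ρ c2 * z` with `z = (ρ z1)⁻¹ * (ρ c2 * ρ c2)⁻¹ ∈ Z` (`c.inv`, `c.sq`, centrality). -/
namespace Cfsg.Agent.Lib.Helper47.T64

open Cfsg.Agent.Lib.Helper54 (K4)
open scoped commutatorElement

variable {T : Type*} [Group T] {ρ : MulAut T} {Z : Subgroup T}

theorem decomp (c : Cfg ρ Z) (x : MulAut T) (hx2 : ∀ g, x (x g) = g)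
    (hxr : ∀ g, x (ρ g) = ρ (ρ (x g))) (g : T) :
    ∃ c1 c2 z : T, x c1 = c1 ∧ x c2 = c2 ∧ z ∈ Z ∧ g = c1 * ρ c2 * z := by
  have hN : Z.Normal := ⟨fun z hz g => by
    have h1 : g * z * g⁻¹ = z := by rw [← c.cen z hz g, mul_inv_cancel_right]
    rw [h1]; exact hz⟩
  have hcomm : ∀ u v : T ⧸ Z, u * v = v * u := by
    intro u v
    obtain ⟨u, rfl⟩ := QuotientGroup.mk_surjective u
    obtain ⟨v, rfl⟩ := QuotientGroup.mk_surjective v
    rw [← QuotientGroup.mk_mul, ← QuotientGroup.mk_mul, QuotientGroup.eq]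
    have h1 := c.comm v⁻¹ u⁻¹
    have h2 : ⁅v⁻¹, u⁻¹⁆ = (u * v)⁻¹ * (v * u) := by
      rw [commutatorElement_def]; group
    rwa [h2] at h1
  have hsq : ∀ u : T ⧸ Z, u * u = 1 := by
    intro u
    obtain ⟨u, rfl⟩ := QuotientGroup.mk_surjective u
    rw [← QuotientGroup.mk_mul, QuotientGroup.eq_one_iff]
    exact c.sq u
  have hinv : ∀ u : T ⧸ Z, u⁻¹ = u := fun u => inv_eq_of_mul_eq_one_left (hsq u)
  obtain ⟨w, hwdef⟩ : ∃ w, w = ⁅x g, g⁆ := ⟨_, rfl⟩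
  have hw : w ∈ Z := hwdef ▸ c.comm _ _
  have he : x (g * x g) = g * x g * w := by
    rw [map_mul, hx2, hwdef]; exact mul_eq c (x g) g
  have hc2 := lift_fixed c x hx2 hxr (g * x g) w hw he
  obtain ⟨c2, hc2def⟩ : ∃ c2, c2 = g * x g * ρ w := ⟨_, rfl⟩
  rw [← hc2def] at hc2
  obtain ⟨d, hddef⟩ : ∃ d, d = g * ρ c2 := ⟨_, rfl⟩
  have hxd : x d = x g * ρ (ρ c2) := by rw [hddef, map_mul, hxr, hc2]
  have hk : (QuotientGroup.mk c2 : T ⧸ Z) = QuotientGroup.mk g * QuotientGroup.mk (x g) := by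
    rw [hc2def, QuotientGroup.mk_mul, QuotientGroup.mk_mul,
      (QuotientGroup.eq_one_iff (ρ w)).2 (c.inv w hw), mul_one]
  have htr : (QuotientGroup.mk c2 : T ⧸ Z) * QuotientGroup.mk (ρ c2) *
      QuotientGroup.mk (ρ (ρ c2)) = 1 := by
    rw [← QuotientGroup.mk_mul, ← QuotientGroup.mk_mul, c.tr]; rfl
  have hz1 : d⁻¹ * x d ∈ Z := by
    rw [← QuotientGroup.eq_one_iff, hxd, hddef]
    simp only [QuotientGroup.mk_mul, QuotientGroup.mk_inv]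
    rw [hinv, ← htr, hk]
    generalize (QuotientGroup.mk g : T ⧸ Z) = a
    generalize (QuotientGroup.mk (x g) : T ⧸ Z) = b
    generalize (QuotientGroup.mk (ρ c2) : T ⧸ Z) = r1
    generalize (QuotientGroup.mk (ρ (ρ c2)) : T ⧸ Z) = r2
    rw [mul_assoc a r1, ← mul_assoc r1 b, hcomm r1 b]
    simp only [mul_assoc]
  obtain ⟨z1, hz1def⟩ : ∃ z1, z1 = d⁻¹ * x d := ⟨_, rfl⟩
  have hz1' : z1 ∈ Z := hz1def ▸ hz1
  have hxd' : x d = d * z1 := by rw [hz1def]; group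
  have hc1 := lift_fixed c x hx2 hxr d z1 hz1' hxd'
  refine ⟨d * ρ z1, c2, (d * ρ z1 * ρ c2)⁻¹ * g, hc1, hc2, ?_, by group⟩
  rw [← QuotientGroup.eq_one_iff, hddef]
  simp only [QuotientGroup.mk_mul, QuotientGroup.mk_inv]
  rw [(QuotientGroup.eq_one_iff (ρ z1)).2 (c.inv z1 hz1'), mul_one, mul_assoc, hsq, mul_one,
    inv_mul_cancel]

end Cfsg.Agent.Lib.Helper47.T64
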