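import Mathlib
import Cfsg.Agent.Lib.Helper47.T64.Defs
import Cfsg.Agent.Lib.Helper47.T64.B1
import Cfsg.Agent.Lib.Helper47.T64.B2
import Cfsg.Agent.Lib.Helper47.T64.X3

set_option autoImplicit false

/-! T64 piece X4.  Two non-commuting fixed points of `x`.

PROOF. By contradiction: suppose any two fixed points of `x` commute, i.e. `⁅c, d⁆ = 1` for fixed `c`, `d` (`comm_eq_one_iff`).  Take `g`, `h` arbitrary, `g = c1 * ρ c2 * z`, `h = d1 * ρ d2 * z'` (`decomp`).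
`⁅g, h⁆ = ⁅c1 * ρ c2, d1 * ρ d2⁆` (`comm_cen_left/right`) `= ⁅c1, d1⁆ * ⁅c1, ρ d2⁆ * (⁅ρ c2, d1⁆ * ⁅ρ c2, ρ d2⁆)` (up to order; `comm_mul_left/right`)
`= 1 * ρ (ρ ⁅c1, d2⁆) * (ρ (ρ ⁅c2, d1⁆) * ρ ⁅c2, d2⁆) = 1` (`twist_right`, `twist_left`, `comm_rho`, `map_one`).  So `g * h = h * g` for all `g h`, against `hna`. -/
namespace Cfsg.Agent.Lib.Helper47.T64

open Cfsg.Agent.Lib.Helper54 (K4)
open scoped commutatorElement

variable {T : Type*} [Group T] {ρ : MulAut T} {Z : Subgroup T}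

theorem exists_fixed_noncomm (c : Cfg ρ Z) (x : MulAut T) (hx2 : ∀ g, x (x g) = g)
    (hxr : ∀ g, x (ρ g) = ρ (ρ (x g))) (hna : ∃ g h : T, g * h ≠ h * g) :
    ∃ c1 c2 : T, x c1 = c1 ∧ x c2 = c2 ∧ c1 * c2 ≠ c2 * c1 := by
  by_contra hcon
  push Not at hcon
  obtain ⟨g, h, hgh⟩ := hna
  apply hgh
  rw [← comm_eq_one_iff]
  obtain ⟨c1, c2, z, hc1, hc2, hz, rfl⟩ := decomp c x hx2 hxr g
  obtain ⟨d1, d2, z', hd1, hd2, hz', rfl⟩ := decomp c x hx2 hxr h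
  have e : ∀ a b, x a = a → x b = b → ⁅a, b⁆ = 1 := fun a b ha hb =>
    (comm_eq_one_iff a b).2 (hcon a b ha hb)
  rw [comm_cen_left c _ _ _ hz, comm_cen_right c _ _ _ hz', comm_mul_left c, comm_mul_right c,
    comm_mul_right c, twist_right c c1 d2, twist_left c c2 d1, ← comm_rho c2 d2,
    e c1 d1 hc1 hd1, e c1 d2 hc1 hd2, e c2 d1 hc2 hd1, e c2 d2 hc2 hd2]
  simp

end Cfsg.Agent.Lib.Helper47.T64
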