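import Mathlib
import Cfsg.Agent.Lib.Helper47.T64.Defs
import Cfsg.Agent.Lib.Helper47.T64.B1
import Cfsg.Agent.Lib.Helper47.T64.B2
import Cfsg.Agent.Lib.Helper47.T64.B3

set_option autoImplicit false

/-! T64 piece X5.  Two non-commuting involutions of `T`. -/
namespace Cfsg.Agent.Lib.Helper47.T64

open Cfsg.Agent.Lib.Helper54 (K4)
open scoped commutatorElement

variable {T : Type*} [Group T] {ρ : MulAut T} {Z : Subgroup T}

theorem exists_invol [Finite T] (c : Cfg ρ Z) (hZ : Nat.card Z = 4) (x : MulAut T)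
    (hxr : ∀ g, x (ρ g) = ρ (ρ (x g))) (c1 c2 : T) (h1 : x c1 = c1) (h2 : x c2 = c2)
    (hne : c1 * c2 ≠ c2 * c1) :
    ∃ a b : T, a * a = 1 ∧ b * b = 1 ∧ a * b ≠ b * a := by
  obtain ⟨w, hw⟩ : ∃ w, w = ⁅c1, c2⁆ := ⟨_, rfl⟩
  have hwZ : w ∈ Z := hw ▸ c.comm c1 c2
  have hw1 : w ≠ 1 := by
    intro h
    rw [hw, comm_eq_one_iff] at h
    exact hne h
  have hxw : x w = w := by
    rw [hw, map_commutatorElement, h1, h2]
  have hww : w * w = 1 := c.zsq w hwZ
  have hrw : ρ w ≠ w := fun h => hw1 (c.fpf w h)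
  have ha : ∀ z ∈ Z, x z = z → z = 1 ∨ z = w := by
    intro z hz hxz
    rcases Z_cases c hZ w hwZ hw1 z hz with h | h | h | h
    · exact Or.inl h
    · exact Or.inr h
    · exfalso
      rw [h, hxr, hxw] at hxz
      exact hrw (ρ.injective hxz)
    · exfalso
      rw [h, hxr, hxr, hxw, c.cube] at hxz
      exact hrw (ρ.injective hxz).symm
  have hs1 : c1 * c1 = 1 ∨ c1 * c1 = w := ha _ (c.sq c1) (by rw [map_mul, h1])
  have hs2 : c2 * c2 = 1 ∨ c2 * c2 = w := ha _ (c.sq c2) (by rw [map_mul, h2])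
  rcases hs1 with hs1 | hs1 <;> rcases hs2 with hs2 | hs2
  · exact ⟨c1, c2, hs1, hs2, hne⟩
  · refine ⟨c1, c1 * c2, hs1, ?_, ?_⟩
    · rw [sq_mul c, hs1, hs2, ← hw, one_mul, hww]
    · intro h
      rw [mul_assoc c1 c2 c1] at h
      exact hne (mul_left_cancel h)
  · refine ⟨c2, c1 * c2, hs2, ?_, ?_⟩
    · rw [sq_mul c, hs1, hs2, ← hw, mul_one, hww]
    · intro h
      rw [← mul_assoc c2 c1 c2] at h
      exact hne (mul_right_cancel h).symm
  · refine ⟨c1 * ρ c2, c1 * ρ (ρ c2), ?_, ?_, ?_⟩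
    · rw [sq_mul c, twist_right c, ← map_mul, hs1, hs2, ← hw]
      exact c.tr w
    · rw [sq_mul c, twist_right2 c, ← map_mul, ← map_mul, hs1, hs2, ← hw, ← tr_Z c w hwZ]
      have h3 : ρ w * ρ w = 1 := c.zsq _ (c.inv w hwZ)
      calc w * (w * ρ w) * ρ w = (w * w) * (ρ w * ρ w) := by simp only [mul_assoc]
        _ = 1 := by rw [hww, h3, one_mul]
    · intro h
      rw [← comm_eq_one_iff, comm_mul_left c, comm_mul_right c, comm_mul_right c,
        twist_right2 c, twist_left c, comm_symm c c2 c1, ← hw, commutatorElement_self,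
        (comm_eq_one_iff (ρ c2) (ρ (ρ c2))).2 (c.cm (ρ c2)), one_mul, mul_one] at h
      have h4 := c.tr w
      rw [mul_assoc, h, mul_one] at h4
      exact hw1 h4

end Cfsg.Agent.Lib.Helper47.T64
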