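import Mathlib
import Cfsg.Agent.Lib.Helper47.T64.Defs

set_option autoImplicit false

/-! T64 piece X6.  The fixed point subgroup of `x` has order 8. -/
namespace Cfsg.Agent.Lib.Helper47.T64

open Cfsg.Agent.Lib.Helper54 (K4)
open scoped commutatorElement

theorem X6_comm {H : Type*} [Group H] [Finite H] {k : ℕ} (hk : k ≤ 2) (hH : Nat.card H = 2 ^ k) :
    ∀ a b : H, a * b = b * a := by
  haveI : Fact (Nat.Prime 2) := ⟨Nat.prime_two⟩
  interval_cases k
  · intro a b
    have : Subsingleton H := (Nat.card_eq_one_iff_unique.1 (by simpa using hH)).1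
    rw [Subsingleton.elim a b]
  · haveI : IsCyclic H := isCyclic_of_prime_card (p := 2) (by simpa using hH)
    intro a b
    exact (IsCyclic.isMulCommutative (α := H)).is_comm.comm a b
  · intro a b
    exact (IsPGroup.isMulCommutative_of_card_eq_prime_sq hH).is_comm.comm a b

theorem card_fix {T : Type*} [Group T] [Finite T] (hT : Nat.card T = 64) (ρ x : MulAut T)
    (hfp : ∀ g, ρ g = g → g = 1) (hxr : ∀ g, x (ρ g) = ρ (ρ (x g)))
    (C : Subgroup T) (hC : ∀ y : T, y ∈ C ↔ x y = y)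
    (c1 c2 : T) (h1 : x c1 = c1) (h2 : x c2 = c2) (hne : c1 * c2 ≠ c2 * c1) :
    Nat.card C = 8 := by
  have hinj : Function.Injective (fun y : C × C => (y.1 : T) * ρ (y.2 : T)) := by
    rintro ⟨⟨c, hc⟩, ⟨c', hc'⟩⟩ ⟨⟨d, hd⟩, ⟨d', hd'⟩⟩ h
    have h : c * ρ c' = d * ρ d' := h
    have h3 : d⁻¹ * c = ρ (d' * c'⁻¹) := by
      rw [map_mul, map_inv]
      calc d⁻¹ * c = d⁻¹ * (c * ρ c') * (ρ c')⁻¹ := by group
        _ = d⁻¹ * (d * ρ d') * (ρ c')⁻¹ := by rw [h]
        _ = ρ d' * (ρ c')⁻¹ := by group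
    have he : d' * c'⁻¹ ∈ C := C.mul_mem hd' (C.inv_mem hc')
    have hy : ρ (d' * c'⁻¹) ∈ C := by rw [← h3]; exact C.mul_mem (C.inv_mem hd) hc
    have h4 := (hC _).1 hy
    rw [hxr, (hC _).1 he] at h4
    have h5 := hfp _ (ρ.injective h4)
    have h6 : d' = c' := by
      calc d' = d' * c'⁻¹ * c' := by group
        _ = c' := by rw [h5, one_mul]
    have h7 : d = c := by
      rw [h5, map_one] at h3
      calc d = d * (d⁻¹ * c) := by rw [h3, mul_one]
        _ = c := by group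
    subst h6 h7
    rfl
  have hle : Nat.card C * Nat.card C ≤ 64 := by
    rw [← hT, ← Nat.card_prod]
    exact Nat.card_le_card_of_injective _ hinj
  have hdvd : Nat.card C ∣ 2 ^ 6 := by
    have := Subgroup.card_subgroup_dvd_card C
    rw [hT] at this
    exact this
  obtain ⟨k, hk6, hk⟩ := (Nat.dvd_prime_pow Nat.prime_two).1 hdvd
  rw [hk] at hle ⊢
  have hk3 : k ≤ 3 := by
    by_contra hcon
    have h8 : 2 ^ 4 ≤ 2 ^ k := Nat.pow_le_pow_right (by norm_num) (by omega)
    nlinarith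
  by_cases hk2 : k ≤ 2
  · exfalso
    apply hne
    have := X6_comm hk2 hk ⟨c1, (hC _).2 h1⟩ ⟨c2, (hC _).2 h2⟩
    exact congrArg Subtype.val this
  · have : k = 3 := by omega
    rw [this]; norm_num

end Cfsg.Agent.Lib.Helper47.T64
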