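import Mathlib
import Cfsg.Agent.Lib.Helper47.T64.Defs
import Cfsg.Agent.Lib.Helper47.T64.A1
import Cfsg.Agent.Lib.Helper47.T64.A2
import Cfsg.Agent.Lib.Helper47.T64.A3a
import Cfsg.Agent.Lib.Helper47.T64.A3b
import Cfsg.Agent.Lib.Helper47.T64.A3c
import Cfsg.Agent.Lib.Helper47.T64.A3d
import Cfsg.Agent.Lib.Helper47.T64.A3e
import Cfsg.Agent.Lib.Helper47.T64.B1
import Cfsg.Agent.Lib.Helper47.T64.B2
import Cfsg.Agent.Lib.Helper47.T64.B3
import Cfsg.Agent.Lib.Helper47.T64.X2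
import Cfsg.Agent.Lib.Helper47.T64.X3
import Cfsg.Agent.Lib.Helper47.T64.X4
import Cfsg.Agent.Lib.Helper47.T64.X5
import Cfsg.Agent.Lib.Helper47.T64.X6
import Cfsg.Agent.Lib.Helper47.T64.Q
import Cfsg.Agent.Lib.Helper47.T64.H1
import Cfsg.Agent.Lib.Helper47.T64.H2
import Cfsg.Agent.Lib.Helper47.T64.H3
import Cfsg.Agent.Lib.Helper47.T64.H4
import Cfsg.Agent.Lib.Helper47.T64.H5

set_option autoImplicit false

/-! # Assembly of S3157 -/

namespace Cfsg.Agent.Lib.Helper47.T64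

open Cfsg.Agent.Lib.Helper54 (K4)
open scoped commutatorElement

/-- the configuration -/
theorem cfg_center {T : Type*} [Group T] [Finite T] (hT : Nat.card T = 64)
    (hna : ∃ g h : T, g * h ≠ h * g) (ρ : MulAut T) (h3 : ∀ g, ρ (ρ (ρ g)) = g)
    (hfp : ∀ g, ρ g = g → g = 1) :
    Cfg ρ (Subgroup.center T) ∧ Nat.card (Subgroup.center T) = 4 := by
  obtain ⟨tr, cm⟩ := fpf_identities ρ h3 hfp
  have hc := card_inv_subgroup hT ρ h3 hfp
  have hli := line_inv ρ h3 tr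
  have hlc := line_comm ρ cm
  have hZ := card_center hT hna ρ h3 hc hli hlc
  have hL := card_line hT hna ρ hc hli hlc hZ
  have hn : ∀ g, g ∉ Subgroup.center T → ∀ t : T, ∀ y ∈ line ρ g, t * y * t⁻¹ ∈ line ρ g :=
    fun g hg => line_normal hT ρ h3 hc hli g (hL g hg)
  have hcm := comm_mem_center ρ hc hli hlc hZ hL hn
  have hsq := center_sq ρ h3 hc hZ
  refine ⟨⟨?_, hsq, hcm, sq_mem_center hcm hsq, ?_, tr, cm, h3, hfp⟩, hZ⟩
  · intro z hz g
    exact (Subgroup.mem_center_iff.mp hz g).symm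
  · intro z hz
    rw [Subgroup.mem_center_iff] at hz ⊢
    intro t
    have e : t = ρ (ρ (ρ t)) := (h3 t).symm
    rw [e, ← map_mul, ← map_mul, hz]

/-- first half: `T` is the Heisenberg group over `K4` -/
theorem iso_heis {T : Type*} [Group T] [Finite T] (hT : Nat.card T = 64) (ρ : MulAut T)
    (Z : Subgroup T) (c : Cfg ρ Z) (a b : T) (ha : a * a = 1) (hb : b * b = 1)
    (hab : a * b ≠ b * a) : Nonempty (T ≃* Heis K4) := by
  have hw1 : ⁅a, b⁆ ≠ 1 := fun h => hab ((comm_eq_one_iff a b).mp h)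
  have hwZ : ⁅a, b⁆ ∈ Z := c.comm a b
  have key : ∀ g : T, g * g = 1 →
      ∀ k k' : K4, sel g (ρ g) (ρ (ρ g)) (k + k') =
        sel g (ρ g) (ρ (ρ g)) k * sel g (ρ g) (ρ (ρ g)) k' := by
    intro g hg
    have h2 : ρ g * ρ g = 1 := by rw [← map_mul, hg, map_one]
    have h3 : ρ (ρ g) * ρ (ρ g) = 1 := by rw [← map_mul, h2, map_one]
    have h12 : g * ρ g = ρ (ρ g) := by
      have := c.tr g
      calc g * ρ g = g * ρ g * (ρ (ρ g) * ρ (ρ g)) := by rw [h3, mul_one]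
        _ = g * ρ g * ρ (ρ g) * ρ (ρ g) := by rw [mul_assoc, mul_assoc, mul_assoc]
        _ = ρ (ρ g) := by rw [this, one_mul]
    exact sel_add g (ρ g) (ρ (ρ g)) hg h2 h3 h12 (by rw [← c.cm g]; exact h12)
  have hρ1 : ∀ g : T, g ≠ 1 → ρ g ≠ 1 := by
    intro g hg h
    apply hg
    have : ρ g = ρ 1 := by rw [h, map_one]
    exact ρ.injective this
  set w := ⁅a, b⁆ with hw
  have hww : w * w = 1 := c.zsq w hwZ
  have hW : ∀ k k' : K4, sel w (ρ (ρ w)) (ρ w) (k + k') =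
      sel w (ρ (ρ w)) (ρ w) k * sel w (ρ (ρ w)) (ρ w) k' := by
    have h2 : ρ w * ρ w = 1 := by rw [← map_mul, hww, map_one]
    have h3 : ρ (ρ w) * ρ (ρ w) = 1 := by rw [← map_mul, h2, map_one]
    have h12 : w * ρ w = ρ (ρ w) := tr_Z c w hwZ
    have h13 : w * ρ (ρ w) = ρ w := by
      rw [← h12, ← mul_assoc, hww, one_mul]
    have h31 : ρ (ρ w) * w = ρ w := by
      rw [← c.cen w hwZ]; exact h13
    exact sel_add w (ρ (ρ w)) (ρ w) hww h3 h2 h13 h31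
  refine iso_of_maps hT (sel a (ρ a) (ρ (ρ a))) (sel b (ρ b) (ρ (ρ b)))
    (sel w (ρ (ρ w)) (ρ w)) (key a ha) (key b hb) hW ?_ (kappa c a b) ?_
  · intro k g
    exact c.cen _ (sel_mem Z _ _ _ hwZ (c.inv _ (c.inv _ hwZ)) (c.inv _ hwZ) k) g
  · exact sel_eq_one _ _ _ hw1 (hρ1 _ (hρ1 _ hw1)) (hρ1 _ hw1)

theorem main {T : Type*} [Group T] [Finite T] (hT : Nat.card T = 64) (hna : ¬ IsMulCommutative T)
    (ρ x : MulAut T) (hρ : orderOf ρ = 3) (hx : orderOf x = 2)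
    (hxr : x * ρ * x⁻¹ = ρ⁻¹) (hfp : ∀ y : T, ρ y = y → y = 1) (C : Subgroup T)
    (hC : ∀ y : T, y ∈ C ↔ x y = y) :
    (∃ (F : Type) (_ : Field F) (_ : Fintype F), Fintype.card F = 4 ∧
        ∃ S : Sylow 2 (Matrix.ProjectiveSpecialLinearGroup (Fin 3) F),
          Nonempty (T ≃* ↥(S : Subgroup (Matrix.ProjectiveSpecialLinearGroup (Fin 3) F)))) ∧
      (Nonempty (↥C ≃* DihedralGroup 4) ∨ Nonempty (↥C ≃* QuaternionGroup 2)) := by
  have hna' : ∃ g h : T, g * h ≠ h * g := by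
    by_contra hcon
    push Not at hcon
    exact hna ⟨⟨hcon⟩⟩
  have h3 : ∀ g, ρ (ρ (ρ g)) = g := by
    intro g
    have : ρ ^ 3 = 1 := by rw [← hρ]; exact pow_orderOf_eq_one ρ
    have h := congrArg (fun e : MulAut T => e g) this
    simpa [pow_succ, MulAut.mul_apply] using h
  have hx2 : ∀ g, x (x g) = g := by
    intro g
    have : x ^ 2 = 1 := by rw [← hx]; exact pow_orderOf_eq_one x
    have h := congrArg (fun e : MulAut T => e g) this
    simpa [pow_succ, MulAut.mul_apply] using h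
  have hxr' : ∀ g, x (ρ g) = ρ (ρ (x g)) := by
    intro g
    have e1 : x * ρ = ρ⁻¹ * x := by
      rw [← hxr]; group
    have e2 : ρ⁻¹ = ρ * ρ := by
      have : ρ ^ 3 = 1 := by rw [← hρ]; exact pow_orderOf_eq_one ρ
      rw [inv_eq_iff_mul_eq_one]
      rw [← this, pow_succ, pow_succ, pow_one, mul_assoc]
    have h := congrArg (fun e : MulAut T => e g) e1
    rw [e2] at h
    simpa [MulAut.mul_apply] using h
  obtain ⟨c, hZ⟩ := cfg_center hT hna' ρ h3 hfp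
  obtain ⟨c1, c2, f1, f2, hne⟩ := exists_fixed_noncomm c x hx2 hxr' hna'
  obtain ⟨a, b, ha, hb, hab⟩ := exists_invol c hZ x hxr' c1 c2 f1 f2 hne
  obtain ⟨e⟩ := iso_heis hT ρ _ c a b ha hb hab
  constructor
  · obtain ⟨f, hf⟩ := exists_inj_PSL
    obtain ⟨S, ⟨e'⟩⟩ := exists_sylow_iso 2 6 315 card_psl (by norm_num) card_heis f hf
    exact ⟨K4, inferInstance, inferInstance, K4.card_eq, S, ⟨e.trans e'⟩⟩
  · have h8 := card_fix hT ρ x hfp hxr' C hC c1 c2 f1 f2 hne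
    apply d8_or_q8 h8
    refine ⟨⟨c1, (hC c1).mpr f1⟩, ⟨c2, (hC c2).mpr f2⟩, ?_⟩
    intro h
    exact hne (congrArg Subtype.val h)

end Cfsg.Agent.Lib.Helper47.T64
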